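import Groth.Agent.Lib.Cyc.FieldDim
import Groth.Agent.Lib.Cyc.SmoothReg
import Groth.Agent.Lib.Regular.UFD
import Mathlib.AlgebraicGeometry.SpreadingOut

/-!
# Purity of the exceptional locus of a proper birational morphism to a regular scheme
-/

set_option autoImplicit false
universe u

open CategoryTheory AlgebraicGeometry

namespace Groth.Agent.Lib.Variety.ExcPurity

open Groth.Agent.Lib Groth.Agent.Lib.Cyc

/-- The exceptional locus. -/
def Exc {X Y : Scheme.{u}} (f : X ⟶ Y) : Set X :=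
  {x | ∀ V : Y.Opens, f x ∈ V → ¬ IsIso (f ∣_ V)}

/-- A birational morphism maps the generic point to the generic point, and nothing else. -/
theorem generic_unique {X Y : Scheme.{u}} [IsIntegral X] [IsIntegral Y] (f : X ⟶ Y)
    (V₀ : Y.Opens) (hV₀ : (V₀ : Set Y).Nonempty) [IsIso (f ∣_ V₀)] :
    f (genericPoint X) = genericPoint Y ∧ genericPoint Y ∈ V₀ ∧
      ∀ a : X, f a = genericPoint Y → a = genericPoint X := by
  have hηV₀ : genericPoint Y ∈ V₀ :=
    ((genericPoint_spec Y).mem_open_set_iff V₀.2).2 (by simpa using hV₀)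
  have hval : ∀ z : ((f ⁻¹ᵁ V₀ : X.Opens) : Scheme.{u}), ((f ∣_ V₀).homeomorph z).1 = f z.1 := fun z =>
    congrArg (fun g : ((f ⁻¹ᵁ V₀ : X.Opens) : Scheme.{u}) ⟶ Y => g z) (morphismRestrict_ι f V₀)
  obtain ⟨⟨w, hw⟩, hw'⟩ := (f ∣_ V₀).homeomorph.surjective ⟨_, hηV₀⟩
  have hfw : f w = genericPoint Y := (hval ⟨w, hw⟩).symm.trans (congrArg Subtype.val hw')
  have hgen : f (genericPoint X) = genericPoint Y := by
    refine (Specializes.antisymm (genericPoint_specializes (f (genericPoint X))) ?_).eq.symm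
    rw [← hfw]
    exact (genericPoint_specializes w).map f.continuous
  have huniq : ∀ a : X, f a = genericPoint Y → a = w := fun a ha => by
    have ha' : a ∈ f ⁻¹ᵁ V₀ := show f a ∈ V₀ from ha ▸ hηV₀
    exact congrArg Subtype.val ((f ∣_ V₀).homeomorph.injective (a₁ := ⟨a, ha'⟩) (a₂ := ⟨w, hw⟩)
      (Subtype.ext ((hval ⟨a, ha'⟩).trans ((ha.trans hfw.symm).trans (hval ⟨w, hw⟩).symm))))
  exact ⟨hgen, hηV₀, fun a ha => (huniq a ha).trans (huniq _ hgen).symm⟩

/-- If the stalk map at `x` is bijective, then `f` is an isomorphism near `f x`. -/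
theorem exists_isIso_of_isIso_stalkMap {X Y : Scheme.{u}} [IsIntegral X] [IsIntegral Y] (f : X ⟶ Y)
    [IsSeparated f] [LocallyOfFiniteType f]
    (hbir : ∃ V : Y.Opens, (V : Set Y).Nonempty ∧ IsIso (f ∣_ V)) (x : X)
    [IsIso (f.stalkMap x)] : ∃ V : Y.Opens, f x ∈ V ∧ IsIso (f ∣_ V) := by
  obtain ⟨V, hxV, σ, -, hσ⟩ := spread_out_of_isGermInjective' (𝟙 Y) f
    (x := f x) (Spec.map (inv (f.stalkMap x)) ≫ X.fromSpecStalk x) (by
      rw [Category.assoc, ← Scheme.SpecMap_stalkMap_fromSpecStalk, ← Spec.map_comp_assoc,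
        IsIso.hom_inv_id, Spec.map_id, Category.id_comp, Category.comp_id])
  rw [Category.comp_id] at hσ
  refine ⟨V, hxV, ?_⟩
  haveI : Nonempty (V : Scheme.{u}) := ⟨⟨f x, hxV⟩⟩
  haveI : IsReduced ((f ⁻¹ᵁ V : X.Opens) : Scheme.{u}) := inferInstance
  let s : (V : Scheme.{u}) ⟶ (f ⁻¹ᵁ V : X.Opens) :=
    IsOpenImmersion.lift (f ⁻¹ᵁ V).ι σ (by
      rintro _ ⟨v, rfl⟩
      rw [Scheme.Opens.range_ι]
      show f (σ v) ∈ V
      rw [← Scheme.Hom.comp_apply, hσ]
      exact v.2)
  have hs : s ≫ (f ∣_ V) = 𝟙 _ := by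
    rw [← cancel_mono V.ι, Category.assoc, morphismRestrict_ι, IsOpenImmersion.lift_fac_assoc,
      hσ, Category.id_comp]
  haveI : IsSeparated (f ∣_ V) := IsZariskiLocalAtTarget.restrict ‹IsSeparated f› V
  haveI : IsClosedImmersion s := by
    haveI : IsClosedImmersion (s ≫ (f ∣_ V)) := by rw [hs]; infer_instance
    exact IsClosedImmersion.of_comp s (f ∣_ V)
  obtain ⟨V₀, hV₀, hiso⟩ := hbir
  obtain ⟨hgen, hηV₀, huniq⟩ := generic_unique f V₀ hV₀
  have hηV : genericPoint Y ∈ V :=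
    ((genericPoint_spec Y).mem_open_set_iff V.2).2 (by simpa using ⟨f x, hxV⟩)
  haveI : Surjective s := ⟨fun a => by
    have hmem : genericPoint X ∈ f ⁻¹ᵁ V := show f (genericPoint X) ∈ V from hgen ▸ hηV
    have hr : (⟨genericPoint X, hmem⟩ : (f ⁻¹ᵁ V : X.Opens)) ∈ Set.range s := by
      refine ⟨⟨genericPoint Y, hηV⟩, Subtype.ext ?_⟩
      have h1 : (s ⟨genericPoint Y, hηV⟩).1 = σ ⟨genericPoint Y, hηV⟩ :=
        congrArg (fun g : (V : Scheme.{u}) ⟶ X => g ⟨genericPoint Y, hηV⟩)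
          (IsOpenImmersion.lift_fac (f ⁻¹ᵁ V).ι σ _)
      refine h1.trans (huniq _ ?_)
      rw [← Scheme.Hom.comp_apply, hσ]
      rfl
    have hsp : (⟨genericPoint X, hmem⟩ : (f ⁻¹ᵁ V : X.Opens)) ⤳ a :=
      (subtype_specializes_iff _ _).2 (genericPoint_specializes a.1)
    exact hsp.mem_closed s.isClosedEmbedding.isClosed_range hr⟩
  haveI : IsIso s := isIso_of_isClosedImmersion_of_surjective s
  haveI : IsIso (s ≫ (f ∣_ V)) := by rw [hs]; infer_instance
  exact IsIso.of_isIso_comp_left s (f ∣_ V)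

/-- The fraction field at the generic point. -/
theorem stalkSpecializes_generic {Y : Scheme.{u}} [IsIntegral Y] {y e : Y} (he : e = genericPoint Y)
    (h : e ⤳ y) :
    Function.Injective (Y.presheaf.stalkSpecializes h).hom ∧
      ∀ v, ∃ a b : Y.presheaf.stalk y, b ≠ 0 ∧
        (Y.presheaf.stalkSpecializes h).hom b * v = (Y.presheaf.stalkSpecializes h).hom a := by
  subst he
  refine ⟨IsFractionRing.injective (Y.presheaf.stalk y) Y.functionField, fun v => ?_⟩
  obtain ⟨⟨a, b⟩, hab⟩ := IsLocalization.surj (nonZeroDivisors (Y.presheaf.stalk y))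
    (S := Y.functionField) v
  exact ⟨a, b.1, nonZeroDivisors.ne_zero b.2, by rw [mul_comm]; exact hab⟩

/-- A generic point of the exceptional locus over a factorial point has codimension one. -/
theorem step_of_maximal {X Y : Scheme.{u}} [IsIntegral X] [IsIntegral Y]
    [IsLocallyNoetherian X] [IsLocallyNoetherian Y] (f : X ⟶ Y) [IsSeparated f] [LocallyOfFiniteType f]
    (hbir : ∃ V : Y.Opens, (V : Set Y).Nonempty ∧ IsIso (f ∣_ V))
    {δ : X → ℤ} (hδ : Cyc.IsDimFun X δ) {δY : Y → ℤ} (hδY : Cyc.IsDimFun Y δY)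
    (x : X) [UniqueFactorizationMonoid (Y.presheaf.stalk (f x))]
    (hx : x ∈ Exc f) (hmax : ∀ x' ∈ Exc f, x' ⤳ x → x' = x) :
    δ x + 1 = δ (genericPoint X) := by
  let A := Y.presheaf.stalk (f x)
  let B := X.presheaf.stalk x
  let φ : A →+* B := (f.stalkMap x).hom
  have hη : f (genericPoint X) = genericPoint Y ∧ IsIso (f.stalkMap (genericPoint X)) := by
    obtain ⟨V₀, hV₀, hiso⟩ := hbir
    obtain ⟨hgen, hηV₀, -⟩ := generic_unique f V₀ hV₀
    have hmem : genericPoint X ∈ f ⁻¹ᵁ V₀ := show f (genericPoint X) ∈ V₀ from hgen ▸ hηV₀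
    exact ⟨hgen, ((MorphismProperty.isomorphisms CommRingCat).arrow_mk_iso_iff
      (morphismRestrictStalkMap f V₀ ⟨_, hmem⟩)).1
        (show IsIso ((f ∣_ V₀).stalkMap ⟨genericPoint X, hmem⟩) from inferInstance)⟩
  obtain ⟨hη, hiso⟩ := hη
  have hsp : genericPoint X ⤳ x := genericPoint_specializes x
  have hspY := hsp.map f.continuous
  obtain ⟨hinjY, hfrac⟩ := stalkSpecializes_generic hη hspY
  obtain ⟨hinjX, -⟩ := stalkSpecializes_generic (Y := X) rfl hsp
  have hbij := ConcreteCategory.bijective_of_isIso (f.stalkMap (genericPoint X))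
  have hnat : ∀ a : A, (X.presheaf.stalkSpecializes hsp).hom (φ a) =
      (f.stalkMap (genericPoint X)).hom ((Y.presheaf.stalkSpecializes hspY).hom a) := fun a =>
    (ConcreteCategory.congr_hom (f.stalkSpecializes_stalkMap (genericPoint X) x hsp) a).symm
  have hφ : Function.Injective φ := fun a b h => hinjY (hbij.1 (by rw [← hnat, ← hnat, h]))
  obtain ⟨t, ht⟩ : ∃ t, t ∉ Set.range φ := by
    by_contra! h
    haveI : IsIso (f.stalkMap x) :=
      (ConcreteCategory.isIso_iff_bijective (f.stalkMap x)).2 ⟨hφ, h⟩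
    obtain ⟨V, hxV, hV⟩ := exists_isIso_of_isIso_stalkMap f hbir x
    exact hx V hxV hV
  obtain ⟨v, hv⟩ := hbij.2 ((X.presheaf.stalkSpecializes hsp).hom t)
  obtain ⟨a₀, b₀, hb₀, hab₀⟩ := hfrac v
  obtain ⟨a, b, c, hrel, rfl, rfl⟩ := UniqueFactorizationMonoid.exists_reduced_factors' a₀ b₀ hb₀
  have hc : c ≠ 0 := fun h => hb₀ (by rw [h, zero_mul])
  have hb : b ≠ 0 := fun h => hb₀ (by rw [h, mul_zero])
  have hab : φ b * t = φ a := by
    have h1 : φ (c * b) * t = φ (c * a) := hinjX (by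
      rw [map_mul, hnat, hnat, ← hab₀, map_mul]
      exact (congrArg₂ (· * ·) rfl hv.symm).trans (map_mul _ _ _).symm)
    rw [map_mul, map_mul, mul_assoc] at h1
    exact mul_left_cancel₀ (fun h => hc (hφ (h.trans (map_zero φ).symm))) h1
  have hbu : ¬ IsUnit b := by
    rintro ⟨b, rfl⟩
    refine ht ⟨a * ↑b⁻¹, ?_⟩
    rw [map_mul, ← hab, mul_comm (φ ↑b) t, mul_assoc, ← map_mul, Units.mul_inv, map_one, mul_one]
  have hφb : ¬ IsUnit (φ b) := fun h => hbu (IsUnit.of_map φ b h)
  obtain ⟨q, hq, -⟩ := Ideal.exists_minimalPrimes_le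
    (IsLocalRing.le_maximalIdeal (show Ideal.span {φ b} ≠ ⊤ by rwa [Ne, Ideal.span_singleton_eq_top]))
  haveI hqp : q.IsPrime := hq.1.1
  have hqb : φ b ∈ q := hq.1.2 (Ideal.mem_span_singleton_self _)
  have hq1 : q.height ≤ 1 := Ideal.height_le_one_of_isPrincipal_of_mem_minimalPrimes
    (Ideal.span {φ b}) q hq
  let Q : PrimeSpectrum B := ⟨q, hqp⟩
  let x' := X.fromSpecStalk x Q
  have hx'x : x' ⤳ x := DimFun.fromSpecStalk_specializes_self x Q
  have hQ : ∀ z : X, (hz : z ⤳ x) → z ⤳ x' → z ≠ x' → DimFun.genPrime x z hz = ⟨⊥, Ideal.isPrime_bot⟩ := by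
    intro z hz hzx hne
    have hle : DimFun.genPrime x z hz ≤ Q := by
      rw [← DimFun.fromSpecStalk_specializes_iff, DimFun.fromSpecStalk_genPrime]; exact hzx
    have hlt : (DimFun.genPrime x z hz).asIdeal < q := lt_of_le_of_ne hle fun e => hne (by
      rw [← DimFun.fromSpecStalk_genPrime x z hz,
        show DimFun.genPrime x z hz = Q from PrimeSpectrum.ext e])
    refine PrimeSpectrum.ext ?_
    by_contra hb'
    have h1 := Ideal.height_strict_mono_of_isPrime hlt
    have h2 : (⊥ : Ideal B).height < (DimFun.genPrime x z hz).asIdeal.height :=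
      Ideal.height_strict_mono_of_isPrime (bot_lt_iff_ne_bot.2 hb')
    have h3 : (DimFun.genPrime x z hz).asIdeal.height = 0 := ENat.lt_one_iff_eq_zero.1 (h1.trans_le hq1)
    rw [h3] at h2
    exact not_lt_bot h2
  have hgenX : DimFun.genPrime x (genericPoint X) hsp = ⟨⊥, Ideal.isPrime_bot⟩ := by
    refine le_antisymm ?_ bot_le
    rw [← DimFun.fromSpecStalk_specializes_iff, DimFun.fromSpecStalk_genPrime]
    exact genericPoint_specializes _
  have hx'η : genericPoint X ≠ x' := fun e => by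
    have h1 := DimFun.eq_genPrime x Q
    have : Q = DimFun.genPrime x (genericPoint X) hsp := by
      rw [h1]; congr 1; exact e.symm
    rw [hgenX] at this
    have h2 : φ b ∈ (⊥ : Ideal B) := by
      have e' : q = ⊥ := congrArg PrimeSpectrum.asIdeal this
      rwa [e'] at hqb
    exact hb (hφ ((Ideal.mem_bot.1 h2).trans (map_zero φ).symm))
  have hstep : δ x' + 1 = δ (genericPoint X) := by
    refine ((hδ (genericPoint X) x' (genericPoint_specializes _) hx'η).2 fun z _ hzx => ?_).symm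
    by_cases hne : z = x'
    · exact Or.inr hne
    · refine Or.inl ?_
      rw [← DimFun.fromSpecStalk_genPrime x z (hzx.trans hx'x), hQ z _ hzx hne, ← hgenX,
        DimFun.fromSpecStalk_genPrime]
  -- the image of `x'` has codimension at least two
  let P : PrimeSpectrum A := ⟨q.comap φ, inferInstance⟩
  have hfx' : Y.fromSpecStalk (f x) P = f x' := by
    show _ = (X.fromSpecStalk x ≫ f) Q
    rw [← Scheme.SpecMap_stalkMap_fromSpecStalk]
    rfl
  obtain ⟨π, hπp, hπb⟩ : ∃ π : A, Prime π ∧ π ∣ b ∧ π ∈ q.comap φ := by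
    obtain ⟨s, hs, hsu⟩ := UniqueFactorizationMonoid.exists_prime_factors b hb
    have : s.prod ∈ q.comap φ := by
      obtain ⟨w, hw⟩ := hsu
      have h1 : s.prod * (w : A) ∈ q.comap φ := by rw [hw]; exact hqb
      exact (P.isPrime.mem_or_mem h1).resolve_right fun h =>
        P.isPrime.ne_top (Ideal.eq_top_of_isUnit_mem _ h w.isUnit)
    obtain ⟨π, hπ, hπ'⟩ := (P.isPrime.multiset_prod_mem_iff_exists_mem s).1 this
    exact ⟨π, hs π hπ, (Multiset.dvd_prod hπ).trans hsu.dvd, hπ'⟩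
  obtain ⟨hπb, hπP⟩ := hπb
  let P₁ : PrimeSpectrum A := ⟨Ideal.span {π}, (Ideal.span_singleton_prime hπp.ne_zero).2 hπp⟩
  have hP₁ : P₁ < P := by
    refine lt_of_le_of_ne ((Ideal.span_singleton_le_iff_mem _).2 hπP) fun e => ?_
    have haP : a ∈ P₁.asIdeal := by
      rw [e]
      show φ a ∈ q
      rw [← hab]
      exact Ideal.mul_mem_right _ _ hqb
    exact hπp.not_unit (hrel (Ideal.mem_span_singleton.1 haP) hπb)
  have hP₀ : (⟨⊥, Ideal.isPrime_bot⟩ : PrimeSpectrum A) < P₁ :=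
    lt_of_le_of_ne bot_le fun e => hπp.ne_zero (Ideal.span_singleton_eq_bot.1
      (congrArg PrimeSpectrum.asIdeal e).symm)
  have hY2 : δY (f x') + 2 ≤ δY (genericPoint Y) := by
    have h1 := (DimFun.fromSpecStalk_specializes_iff (f x) P₁ P).2 hP₁.le
    have h2 := DimFun.lt_of_specializes hδY h1
      fun e => hP₁.ne (DimFun.fromSpecStalk_injective _ e)
    have h3 := (DimFun.fromSpecStalk_specializes_iff (f x) _ P₁).2 hP₀.le
    have h4 := DimFun.lt_of_specializes hδY h3
      fun e => hP₀.ne (DimFun.fromSpecStalk_injective _ e)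
    have h5 := DimFun.le_of_specializes hδY
      (genericPoint_specializes (Y.fromSpecStalk (f x) (⟨⊥, Ideal.isPrime_bot⟩ : PrimeSpectrum A)))
    rw [hfx'] at h2
    omega
  have hx'E : x' ∈ Exc f := fun V hV hiso' => by
    have hI : IsIso (f.stalkMap x') := ((MorphismProperty.isomorphisms CommRingCat).arrow_mk_iso_iff
      (morphismRestrictStalkMap f V ⟨x', hV⟩)).1
        (show IsIso ((f ∣_ V).stalkMap ⟨x', hV⟩) from inferInstance)
    have h1 := ringKrullDim_eq_of_ringEquiv (asIso (f.stalkMap x')).commRingCatIsoToRingEquiv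
    rw [DimFun.ringKrullDim_stalk hδ x', DimFun.ringKrullDim_stalk hδY (f x')] at h1
    have h2 : (δY (genericPoint Y) - δY (f x')).toNat = (δ (genericPoint X) - δ x').toNat := by
      exact_mod_cast h1
    omega
  rw [← hmax x' hx'E hx'x]
  exact hstep

/-- Purity. -/
theorem topologicalKrullDim_component {X Y : Scheme.{u}} {k : Type u} [Field k] [IsIntegral X]
    [IsIntegral Y] (gX : X ⟶ Spec (CommRingCat.of k)) (gY : Y ⟶ Spec (CommRingCat.of k))
    [LocallyOfFiniteType gX] [LocallyOfFiniteType gY]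
    (hreg : ∀ y : Y, IsRegularLocalRing (Y.presheaf.stalk y)) (f : X ⟶ Y) [IsSeparated f]
    [LocallyOfFiniteType f]
    (hbir : ∃ V : Y.Opens, (V : Set Y).Nonempty ∧ IsIso (f ∣_ V))
    (Z : Set (Exc f)) (hZ : Z ∈ irreducibleComponents (Exc f)) :
    topologicalKrullDim Z + 1 = topologicalKrullDim X := by
  haveI : IsLocallyNoetherian X := LocallyOfFiniteType.isLocallyNoetherian gX
  haveI : IsLocallyNoetherian Y := LocallyOfFiniteType.isLocallyNoetherian gY
  have hc : IsClosed (Exc f) := by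
    rw [← isOpen_compl_iff, isOpen_iff_forall_mem_open]
    intro x hx
    simp only [Exc, Set.mem_compl_iff, Set.mem_setOf_eq, not_forall, not_not] at hx
    obtain ⟨V, hV, hiso⟩ := hx
    exact ⟨f ⁻¹' V, fun z hz hz' => hz' V hz hiso, V.2.preimage f.continuous, hV⟩
  haveI : QuasiSober (Exc f) := hc.isClosedEmbedding_subtypeVal.quasiSober
  have hZc := isClosed_of_mem_irreducibleComponents Z hZ
  let ξ : Exc f := hZ.1.genericPoint
  have hξ : closure {ξ} = Z := by rw [hZ.1.closure_genericPoint hZc]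
  have hmax : ∀ x' ∈ Exc f, x' ⤳ ξ.1 → x' = ξ.1 := by
    intro x' hx' h
    have h1 : (⟨x', hx'⟩ : Exc f) ⤳ ξ := (subtype_specializes_iff _ _).2 h
    have h2 : Z ⊆ closure {(⟨x', hx'⟩ : Exc f)} :=
      hξ ▸ closure_minimal (Set.singleton_subset_iff.2 h1.mem_closure) isClosed_closure
    have h3 := hZ.2 isIrreducible_singleton.closure h2
    have h4 : ξ ⤳ (⟨x', hx'⟩ : Exc f) :=
      specializes_iff_mem_closure.2 (hξ ▸ h3 (subset_closure rfl))
    exact (h.antisymm ((subtype_specializes_iff _ _).1 h4)).eq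
  haveI := hreg (f ξ.1)
  haveI : UniqueFactorizationMonoid (Y.presheaf.stalk (f ξ.1)) :=
    Groth.Agent.Lib.Regular.UFD.uniqueFactorizationMonoid _
  have hstep := step_of_maximal f hbir (FieldDim.isDimFun_fdelta gX) (FieldDim.isDimFun_fdelta gY)
    ξ.1 ξ.2 hmax
  have e : Z ≃ₜ closure ({ξ.1} : Set X) := by
    have himg : Subtype.val '' Z = closure ({ξ.1} : Set X) := by
      rw [← hξ, ← hc.isClosedEmbedding_subtypeVal.closure_image_eq, Set.image_singleton]
    exact (hc.isClosedEmbedding_subtypeVal.isEmbedding.comp .subtypeVal).toHomeomorph.trans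
      (Homeomorph.setCongr (by rw [Set.range_comp, Subtype.range_val]; exact himg))
  rw [IsHomeomorph.topologicalKrullDim_eq _ e.isHomeomorph,
    FieldDim.topologicalKrullDim_closure gX ξ.1,
    ← IsHomeomorph.topologicalKrullDim_eq _ (Homeomorph.Set.univ X).isHomeomorph,
    ← (genericPoint_spec X).def, FieldDim.topologicalKrullDim_closure gX (genericPoint X)]
  have h0 := FieldDim.fdelta_nonneg gX ξ.1
  rw [← hstep, show (FieldDim.fdelta gX ξ.1 + 1).toNat = (FieldDim.fdelta gX ξ.1).toNat + 1 by omega]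
  push_cast
  rfl

end Groth.Agent.Lib.Variety.ExcPurity
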